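import Mathlib
import Cfsg.Agent.Lib.Helper6.Ls.Defs
import Cfsg.Agent.Lib.Helper13.SympTrans

set_option autoImplicit false

/-!
# `Lq` hive (S2333): Landazuri–Seitz bound for `Sp_{2n}(q)`, `q` even — definitions

`Tq q n = (q^n - 1)(q^n - q)/(2(q+1))`, by its recursion `Tq q (n+1) = (q-1) * (q^n (q^n - 1)/2) + Tq q n`.
The abstract layer (`fixIn`, `eigIn`, `ActsNontriv`, `Stable`, `subRep`) is helper6's `Ls.Defs`.
Everything is phrased for `Spg F m = ↥(Matrix.symplecticGroup (Fin m) F)` acting on `Vec F m = Fin m ⊕ Fin m → F`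
by `mulVec`, with the form `Cfsg.sympForm m F` and helper13's transvections `sympTransvElt m e c : x ↦ x + c f(x,e) e`.
-/

namespace Cfsg.Agent.Lib.Helper21.Lq

open Module Cfsg.Agent.Lib.Helper6.Ls Cfsg.Agent.Lib.Helper13

/-- the Landazuri–Seitz bound for `Sp_{2n}(q)`, `q` even, by its recursion. -/
def Tq (q : ℕ) : ℕ → ℕ
  | 0 => 0
  | (n + 1) => (q - 1) * (q ^ n * (q ^ n - 1) / 2) + Tq q n

section symplectic

variable (F : Type*) [Field F] (m : ℕ)

/-- `Sp_{2m}(F)` as a type. -/
abbrev Spg : Type _ := ↥(Matrix.symplecticGroup (Fin m) F)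

/-- the natural module. -/
abbrev Vec : Type _ := Fin m ⊕ Fin m → F

variable {F m}

/-- the transvections with centre `e`. -/
def rootSet (e : Vec F m) : Set (Spg F m) := {g | ∃ c : F, g = sympTransvElt m e c}

/-- the root (transvection) subgroup `Z_e = {x ↦ x + c f(x,e) e}` (closure of `rootSet e`; leaf `C-ZG`: it is the set). -/
def Zgrp (e : Vec F m) : Subgroup (Spg F m) := Subgroup.closure (rootSet e)

/-- some root subgroup acts non-trivially. -/
def RootNontriv {W : Type*} [AddCommGroup W] [Module ℂ W] (ρ : Representation ℂ (Spg F m) W) : Prop :=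
  ∃ e : Vec F m, ActsNontriv ρ (Zgrp e) ⊤

/-- the matrix of `x ↦ x + f(x,e) (w + c e) + f(x,w) e` (characteristic 2 Siegel/Eichler element). -/
def Emat (e w : Vec F m) (c : F) : Matrix (Fin m ⊕ Fin m) (Fin m ⊕ Fin m) F :=
  1 + Matrix.vecMulVec (w + c • e) (Matrix.mulVec (Matrix.J (Fin m) F) e)
    + Matrix.vecMulVec e (Matrix.mulVec (Matrix.J (Fin m) F) w)

/-- `Emat` as an element of `Sp` (junk `1` if it is not symplectic). -/
noncomputable def Eelt (e w : Vec F m) (c : F) : Spg F m := by
  classical
  exact if h : Emat e w c ∈ Matrix.symplecticGroup (Fin m) F then ⟨Emat e w c, h⟩ else 1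

/-- the abelian group attached to the totally isotropic plane `⟨e1, e2, e3⟩`: generated by all root subgroups with
centre in the plane. -/
def planeGrp (e1 e2 e3 : Vec F m) : Subgroup (Spg F m) :=
  ⨆ v : F × F × F, Zgrp (v.1 • e1 + v.2.1 • e2 + v.2.2 • e3)

end symplectic

section coords

variable (F : Type*) [Field F] (k : ℕ)

/-- the last basis vector of the first half. -/
def e0 : Vec F (k + 1) := Pi.single (Sum.inl (Fin.last k)) 1

/-- the last basis vector of the second half (`f(e0, f0) = -1`). -/
def f0 : Vec F (k + 1) := Pi.single (Sum.inr (Fin.last k)) 1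

variable {F k}

/-- padding a vector of the `2k`-space with a zero in the last coordinate of each half. -/
def pad (v : Vec F k) : Vec F (k + 1) :=
  Sum.elim (Fin.snoc (α := fun _ => F) (fun i => v (Sum.inl i)) 0)
    (Fin.snoc (α := fun _ => F) (fun i => v (Sum.inr i)) 0)

variable (F k)

/-- the radical `Q = {E(pad w, c)}` of the stabiliser of `⟨e0⟩` (abelian in characteristic 2; closure, leaf `C-QAB`:
it is the set). -/
def Qgrp : Subgroup (Spg F (k + 1)) :=
  Subgroup.closure {g | ∃ (w : Vec F k) (c : F), g = Eelt (e0 F k) (pad w) c}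

end coords

/-- the index type of the points of the plane (as non-zero coordinate triples). -/
abbrev PlanePt (F : Type*) [Field F] : Type _ := {v : F × F × F // v ≠ 0}

/-- linear independence of two coordinate triples. -/
def Indep {F : Type*} [Field F] (v v' : PlanePt F) : Prop :=
  ∀ a b : F, a • v.1 + b • v'.1 = 0 → a = 0 ∧ b = 0

end Cfsg.Agent.Lib.Helper21.Lq
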