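import Cfsg.Agent.Lib.Helper21.Lq.Defs
import Cfsg.Agent.Lib.Helper13.SpParabolic
import Cfsg.Agent.Lib.Helper13.LqCMOVE
import Cfsg.Agent.Lib.Helper13.LqCTOP
import Cfsg.Agent.Lib.Helper43.LqARITH
import Cfsg.Agent.Lib.Helper43.LqCEMAT
import Cfsg.Agent.Lib.Helper49.LqCTOR1
import Cfsg.Agent.Lib.Helper53.LqCFIXI
import Cfsg.Agent.Lib.Helper53.LqCFIXR
import Cfsg.Agent.Lib.Helper53.LqFCW
import Cfsg.Agent.Lib.Helper54.LqCQAB
import Cfsg.Agent.Lib.Helper68.LqCLIFT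
import Cfsg.Agent.Lib.Helper74.LqFGAUSS
import Cfsg.Agent.Lib.Helper80.LqCFIXT
import Cfsg.Agent.Lib.Helper85.LqABORB
import Cfsg.Agent.Lib.Helper95.LqCFIXA
import Cfsg.Agent.Lib.Helper95.LqCZG
import Cfsg.Agent.Lib.Helper5.LqCORB
import Cfsg.Agent.Lib.Helper24.LsABCONJ
import Cfsg.Agent.Lib.Helper24.LsABSTAB
import Cfsg.Agent.Lib.Helper24.LsABTOR
import Cfsg.Agent.Lib.Helper70.LsABISOT
import Cfsg.Agent.Lib.Helper70.LsABNT
import Cfsg.Agent.Lib.Helper79.LsABFIXNT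
import Cfsg.Agent.Lib.Helper88.LsABSUB

/-!
# `Lq` hive (S2333): all leaves (16 Lq leaves by helper5, 13, 43, 49, 53, 54, 68, 74, 80, 85, 95 (+ helper35, 60, 78 for the
C-ORB / C-FIXI sub-leaves) and the 7 abstract leaves of helper6's `Ls` hive by helper24, 70, 79, 88).
-/
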