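import Cfsg.Agent.Lib.Helper21.Lq.All

set_option autoImplicit false

namespace Cfsg.Agent.Lib.Helper21.Lq

open Module Cfsg.Agent.Lib.Helper6.Ls Cfsg.Agent.Lib.Helper13

universe w

section abstract

variable {G : Type*} [Group G] [Finite G] {W : Type*} [AddCommGroup W] [Module ℂ W]
  [FiniteDimensional ℂ W]

theorem stable_top' (ρ : Representation ℂ G W) (g : G) : Stable ρ g ⊤ := fun _ _ => Submodule.mem_top

/-- the lower bound `dim C_W(Z) + (q-1) N ≤ dim W` from the orbit and torus data. -/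
theorem lowerq (ρ : Representation ℂ G W) (Z Q1 : Subgroup G) (hZQ : Z ≤ Q1)
    (hQ1 : ∀ a ∈ Q1, ∀ b ∈ Q1, a * b = b * a) (N : ℕ)
    (horb : ∀ μ : G → ℂ, μ 1 = 1 → (∀ a ∈ Q1, ∀ b ∈ Q1, μ (a * b) = μ a * μ b) → (∃ z ∈ Z, μ z ≠ 1) →
      ∃ (ι : Type) (_ : Fintype ι) (y : ι → G), Fintype.card ι = N ∧
        (∀ i, ∀ a ∈ Q1, (y i)⁻¹ * a * y i ∈ Q1) ∧ (∀ i, ∀ z ∈ Z, (y i)⁻¹ * z * y i = z) ∧
        (∀ i j, i ≠ j → ∃ a ∈ Q1, μ ((y i)⁻¹ * a * y i) ≠ μ ((y j)⁻¹ * a * y j)))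
    {κ : Type*} [Fintype κ] (t : κ → G)
    (htZ : ∀ k, ∀ z ∈ Z, (t k)⁻¹ * z * t k ∈ Z)
    (hfree : ∀ k k', k ≠ k' → ∀ z' ∈ Z, ∃ z ∈ Z, (t k)⁻¹ * z * t k * ((t k')⁻¹ * z * t k')⁻¹ = z')
    (hnt : ActsNontriv ρ Z ⊤) :
    finrank ℂ (fixIn ρ Z ⊤) + Fintype.card κ * N ≤ finrank ℂ W := by
  obtain ⟨lam, hlam, hne⟩ := exists_eig_of_actsNontriv ρ Z
    (fun a ha b hb => hQ1 a (hZQ ha) b (hZQ hb)) ⊤ (fun z _ => stable_top' ρ z) hnt
  obtain ⟨lams, hdist, hnt', hne'⟩ := torus_eigs ρ ⊤ Z t htZ hfree (fun k => stable_top' ρ (t k)) lam hlam hne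
  have h1 := sum_finrank_eigIn_le ρ Z ⊤ lams hdist hnt'
  rw [finrank_top] at h1
  have h2 : Fintype.card κ * N ≤ ∑ k, finrank ℂ (eigIn ρ Z (lams k) ⊤) := by
    calc Fintype.card κ * N = ∑ _k : κ, N := by
          rw [Finset.sum_const, Finset.card_univ, smul_eq_mul]
      _ ≤ _ := Finset.sum_le_sum (fun k _ =>
          orb_bound ρ Z Q1 hZQ hQ1 N horb (lams k) (hnt' k) (hne' k))
  omega

end abstract

variable {F : Type*} [Field F] [Fintype F] [CharP F 2]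

theorem e0_ne_zero (k : ℕ) : e0 F k ≠ 0 := by
  intro h
  have := congrFun h (Sum.inl (Fin.last k))
  simp [e0] at this

omit [Fintype F] [CharP F 2] in
theorem sympForm_pad {k : ℕ} (a b : Vec F k) :
    Cfsg.sympForm (k + 1) F (pad a) (pad b) = Cfsg.sympForm k F a b := by
  rw [sympForm_expand, sympForm_expand, Fin.sum_univ_castSucc]
  simp [pad]

omit [Fintype F] [CharP F 2] in
theorem sympForm_pad_e0 {k : ℕ} (a : Vec F k) :
    Cfsg.sympForm (k + 1) F (pad a) (e0 F k) = 0 := by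
  rw [sympForm_expand, Fin.sum_univ_castSucc]
  simp [pad, e0]

theorem claim_step (k : ℕ)
    (IH : ∀ (W : Type w) [AddCommGroup W] [Module ℂ W] [FiniteDimensional ℂ W]
      (ρ : Representation ℂ (Spg F k) W), RootNontriv ρ → Tq (Fintype.card F) k ≤ finrank ℂ W)
    (W : Type w) [AddCommGroup W] [Module ℂ W] [FiniteDimensional ℂ W]
    (ρ : Representation ℂ (Spg F (k + 1)) W) (hρ : RootNontriv ρ) :
    Tq (Fintype.card F) (k + 1) ≤ finrank ℂ W := by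
  -- WLOG the root group of `e0` acts non-trivially
  have hnt : ActsNontriv ρ (Zgrp (e0 F k)) ⊤ := by
    obtain ⟨e1, hnt1⟩ := hρ
    have he10 : e1 ≠ 0 := by
      rintro rfl
      rw [Zgrp_zero] at hnt1
      obtain ⟨z, hz, w, _, hw⟩ := hnt1
      rw [Subgroup.mem_bot] at hz
      subst hz
      exact hw (by simp)
    obtain ⟨g, hg⟩ := exists_conj_Zgrp e1 (e0 F k) he10 (e0_ne_zero k)
    rw [← hg]
    exact (actsNontriv_map_conj ρ (Zgrp e1) g).2 hnt1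
  obtain ⟨κ, _, t, hκ, htZ, hfree⟩ := exists_torus1 (F := F) k
  have hlow := lowerq ρ (Zgrp (e0 F k)) (Qgrp F k) (Zgrp_le_Qgrp k) (Qgrp_comm k)
    (Fintype.card F ^ k * (Fintype.card F ^ k - 1) / 2)
    (fun μ h1 hmul hnt' => exists_orb_data k μ h1 hmul hnt') t htZ hfree hnt
  rw [hκ] at hlow
  have hT : Tq (Fintype.card F) (k + 1)
      = (Fintype.card F - 1) * (Fintype.card F ^ k * (Fintype.card F ^ k - 1) / 2)
        + Tq (Fintype.card F) k := rfl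
  rw [hT]
  suffices hfix : Tq (Fintype.card F) k ≤ finrank ℂ (fixIn ρ (Zgrp (e0 F k)) ⊤) by omega
  -- small ranks
  obtain rfl | hk1 : k = 0 ∨ 1 ≤ k := by omega
  · exact Nat.zero_le _
  obtain ⟨k1, rfl⟩ : ∃ k1, k = k1 + 1 := ⟨k - 1, by omega⟩
  obtain rfl | hk2 : k1 = 0 ∨ 1 ≤ k1 := by omega
  · have : Tq (Fintype.card F) (0 + 1) = 0 := by simp [Tq]
    rw [this]; exact Nat.zero_le _
  obtain ⟨k2, rfl⟩ : ∃ k2, k1 = k2 + 1 := ⟨k1 - 1, by omega⟩
  -- rank k2 + 3: the plane e1 = e0, e2 = pad e0, e3 = pad (pad e0)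
  set E1 : Vec F (k2 + 1 + 1 + 1) := e0 F (k2 + 1 + 1) with hE1
  set E2 : Vec F (k2 + 1 + 1 + 1) := pad (e0 F (k2 + 1)) with hE2
  set E3 : Vec F (k2 + 1 + 1 + 1) := pad (pad (e0 F k2)) with hE3
  have h12 : Cfsg.sympForm _ F E1 E2 = 0 := by
    rw [sympForm_swap, hE1, hE2, sympForm_pad_e0, neg_zero]
  have h13 : Cfsg.sympForm _ F E1 E3 = 0 := by
    rw [sympForm_swap, hE1, hE3, sympForm_pad_e0, neg_zero]
  have h23 : Cfsg.sympForm _ F E2 E3 = 0 := by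
    rw [sympForm_swap, hE2, hE3, sympForm_pad, sympForm_pad_e0, neg_zero]
  have hli : LinearIndependent F ![E1, E2, E3] := by
    rw [Fintype.linearIndependent_iff]
    intro c hc
    rw [Fin.sum_univ_three] at hc
    simp only [Matrix.cons_val_zero, Matrix.cons_val_one, Matrix.cons_val_two, Matrix.head_cons,
      Matrix.tail_cons] at hc
    have c0 := congrFun hc (Sum.inl (Fin.last (k2 + 1 + 1)))
    have c1 := congrFun hc (Sum.inl (Fin.castSucc (Fin.last (k2 + 1))))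
    have c2 := congrFun hc (Sum.inl (Fin.castSucc (Fin.castSucc (Fin.last k2))))
    simp [hE1, hE2, hE3, e0, pad] at c0 c1 c2
    intro i
    fin_cases i
    · simpa using c0
    · simpa using c1
    · simpa using c2
  have hp0 : ((1 : F), (0 : F), (0 : F)) ≠ 0 := by
    intro h; exact one_ne_zero (congrArg Prod.fst h)
  have hp1 : ((0 : F), (1 : F), (0 : F)) ≠ 0 := by
    intro h; exact one_ne_zero (congrArg (fun x => x.2.1) h)
  have he1 : (1 : F) • E1 + (0 : F) • E2 + (0 : F) • E3 = E1 := by simp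
  have he2 : (0 : F) • E1 + (1 : F) • E2 + (0 : F) • E3 = E2 := by simp
  have hfixnt : ActsNontriv ρ (Zgrp E2) (fixIn ρ (Zgrp E1) ⊤) := by
    have key := fixnt ρ (planeGrp E1 E2 E3) (planeGrp_comm E1 E2 E3 h12 h13 h23)
      (Zs := fun v : PlanePt F => Zgrp (v.1.1 • E1 + v.1.2.1 • E2 + v.1.2.2 • E3))
      (fun v => le_iSup (fun v : F × F × F =>
        (Zgrp (v.1 • E1 + v.2.1 • E2 + v.2.2 • E3) : Subgroup (Spg F _))) v.1)
      (fun v v' => Indep v v')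
      (exists_planePt_indep) ⟨(1, 0, 0), hp0⟩ ⟨(0, 1, 0), hp1⟩
      (by
        intro v v' hvv'
        obtain ⟨g, hg1, hg2⟩ := exists_conj_plane E1 E2 E3 h12 h13 h23 hli v v' hvv'
        refine ⟨g, ?_, ?_⟩
        · show (Zgrp ((1 : F) • E1 + (0 : F) • E2 + (0 : F) • E3)).map _ = _
          rw [he1]; exact hg1
        · show (Zgrp ((0 : F) • E1 + (1 : F) • E2 + (0 : F) • E3)).map _ = _
          rw [he2]; exact hg2)
      (by
        intro μ h1 hmul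
        exact exists_isotropic_pt E1 E2 E3 h12 h13 h23 μ h1 hmul)
      (by
        show ActsNontriv ρ (Zgrp ((1 : F) • E1 + (0 : F) • E2 + (0 : F) • E3)) ⊤
        rw [he1]; exact hnt)
    have key' : ActsNontriv ρ (Zgrp ((0 : F) • E1 + (1 : F) • E2 + (0 : F) • E3))
        (fixIn ρ (Zgrp ((1 : F) • E1 + (0 : F) • E2 + (0 : F) • E3)) ⊤) := key
    rw [he1, he2] at key'
    exact key'
  -- the lift
  obtain ⟨φ, hφc, hφZ⟩ := exists_lift (F := F) (k2 + 1 + 1)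
  have hU : ∀ g, Stable ρ (φ g) (fixIn ρ (Zgrp E1) ⊤) := by
    intro g
    apply stable_fixIn_of_normalizes
    intro z hz
    have : (φ g)⁻¹ * z * φ g = z := by
      rw [mul_assoc, ← hφc g z hz, ← mul_assoc, inv_mul_cancel, one_mul]
    rw [this]; exact hz
  have hroot : RootNontriv (subRep ρ φ (fixIn ρ (Zgrp E1) ⊤) hU) := by
    refine ⟨e0 F (k2 + 1), ?_⟩
    apply actsNontriv_subRep
    rw [hφZ (e0 F (k2 + 1))]
    exact hfixnt
  exact IH _ (subRep ρ φ (fixIn ρ (Zgrp E1) ⊤) hU) hroot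

theorem claim : ∀ n : ℕ,
    ∀ (W : Type w) [AddCommGroup W] [Module ℂ W] [FiniteDimensional ℂ W]
      (ρ : Representation ℂ (Spg F n) W), RootNontriv ρ → Tq (Fintype.card F) n ≤ finrank ℂ W := by
  intro n
  induction n with
  | zero =>
    intro W _ _ _ ρ _
    exact Nat.zero_le _
  | succ k ih =>
    intro W _ _ _ ρ hρ
    exact claim_step k (fun W _ _ _ ρ' hρ' => ih W ρ' hρ') W ρ hρ

end Cfsg.Agent.Lib.Helper21.Lq
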